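import Cfsg.Agent.Blocks.CyclicRankOne.Main

/-!
# A block of rank one with cyclic defect group: relative projectivity and the generator of the radical
-/

set_option autoImplicit false
set_option linter.unusedSectionVars false
set_option linter.style.haveILetI false

namespace CfsgLib.Blocks.CyclicRank

open Cfsg CfsgLib CfsgLib.Blocks CfsgLib.CharBasics CfsgLib.BrauerChar CfsgLib.Blocks.CyclicRankOne
open scoped ComplexConjugate

variable {p : ℕ} {M : Ideal AlgInt} {G : Type*} [Group G] [Fintype G] (hM : IsPModular p M)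
variable {B : Set (IrrCharacter G)} (hB : IsPBlock M B)

include hM hB in
/-- The generator of the radical, and an element whose trace from the defect group is the idempotent. -/
theorem exists_gen_data {P : Subgroup G} [Fintype (G ⧸ P)] (hPD : IsDefectGroup p M B P) (hcyc : IsCyclic P)
    (hl : blockRank p B = 1) :
    ∃ (S : Corner (RF hM) (eBar hM hB)) (u : G) (a : MonoidAlgebra (RF hM) G) (g : MonoidAlgebra (RF hM) G),
      P = Subgroup.zpowers u ∧ Commute a (el u) ∧
      ∑ r : G ⧸ P, el r.out * a * el (r.out)⁻¹ = eBar hM hB ∧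
      g ∈ S.J ∧ S.J ≤ Submodule.span (RF hM) {g} ⊔ S.J * S.J := by
  classical
  haveI := Fact.mk hM.1
  haveI : Fintype (IrrCharacter G) := @Fintype.ofFinite _ finite_irrCharacter
  haveI : Module.Finite (RF hM) (MonoidAlgebra (RF hM) G) := inferInstance
  have hcard := card_defectGroup hM hB hPD
  obtain ⟨u, hu⟩ : ∃ u : G, P = Subgroup.zpowers u := by
    obtain ⟨u, hu⟩ := hcyc.exists_generator
    refine ⟨u, le_antisymm (fun x hx => ?_) (Subgroup.zpowers_le.2 u.2)⟩
    obtain ⟨i, hi⟩ := Subgroup.mem_zpowers_iff.1 (hu ⟨x, hx⟩)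
    exact Subgroup.mem_zpowers_iff.2 ⟨i, congrArg Subtype.val hi⟩
  have huord : orderOf u = p ^ blockDefect p B := by rw [← Nat.card_zpowers, ← hu, hcard]
  obtain ⟨y, hy, Sy, hSy⟩ := id hPD
  let Cy := Subgroup.centralizer ({y} : Set G)
  have hPC : P ≤ Cy := by rw [hSy]; exact Subgroup.map_subtype_le _
  have hNp : ¬ p ∣ P.relIndex Cy := by
    have h : P.subgroupOf Cy = (Sy : Subgroup Cy) := by
      rw [hSy]
      exact Subgroup.comap_map_eq_self_of_injective Cy.subtype_injective _
    rw [Subgroup.relIndex, h]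
    exact Sy.not_dvd_index
  set e := eBar hM hB with he
  have he0 : e ≠ 0 := fun h => by
    have h1 := coeff_eBar hM hB y
    rw [← he, h, eq_comm] at h1
    exact hy.2.1 ((res_eq_zero hM (z := eR hM hB y) hy.1).1 (by simpa using h1))
  obtain ⟨S⟩ := exists_corner_of_rank_one hM hB hl he0
  -- the class sum
  set K : MonoidAlgebra (RF hM) G := ∑ x ∈ Finset.univ.filter (IsConj y), el x with hK
  have hKc : ∀ z, Commute K z := by
    intro z
    rw [← TwoChar.sum_single' z]
    refine Commute.sum_right _ _ _ fun g _ => ?_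
    rw [← mul_one (z.coeff g), ← smul_eq_mul, ← MonoidAlgebra.smul_single]
    refine Commute.smul_right ?_ _
    rw [Commute, SemiconjBy, hK, Finset.sum_mul, Finset.mul_sum]
    simp only [el_mul]
    refine Finset.sum_equiv (MulAut.conj g⁻¹).toEquiv (fun x => ?_) fun x _ => ?_
    · simp only [Finset.mem_filter, Finset.mem_univ, true_and, MulEquiv.toEquiv_eq_coe, EquivLike.coe_coe,
        MulAut.conj_apply, inv_inv]
      exact ⟨fun h => h.trans (isConj_iff.2 ⟨g⁻¹, by group⟩), fun h => h.trans (isConj_iff.2 ⟨g, by group⟩)⟩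
    · simp only [MulEquiv.toEquiv_eq_coe, EquivLike.coe_coe, MulAut.conj_apply, inv_inv]
      congr 1
      group
  have hec := eBar_comm hM hB
  have hei := eBar_idem hM hB
  have hKf : S.f * (K * S.f) * S.f = K * S.f := by
    rw [← mul_assoc, ← (hKc S.f).eq, mul_assoc K, S.idem, mul_assoc K, S.idem]
  obtain ⟨cK, hcK⟩ := S.dec _ hKf
  set t := e * K - cK • e with ht
  have hte : e * t = t := by rw [ht, mul_sub, ← mul_assoc, mul_smul_comm, hei.eq]
  have htρ : S.ρ t = 0 := by
    have e1 : t = ∑ i, S.u i * (K * S.f - cK • S.f) * S.v i := by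
      simp only [mul_sub, sub_mul, Finset.sum_sub_distrib, mul_smul_comm, smul_mul_assoc, ← Finset.smul_sum]
      rw [ht]
      congr 1
      · rw [(hec K).eq, show K * e = K * ∑ i, S.u i * S.v i from congrArg _ S.sum_eq.symm, Finset.mul_sum]
        refine Finset.sum_congr rfl fun i _ => ?_
        rw [← mul_assoc, ← mul_assoc (S.u i) K, ← (hKc (S.u i)).eq, mul_assoc K (S.u i) S.f, S.uf]
      · refine congrArg _ (S.sum_eq.symm.trans (Finset.sum_congr rfl fun i _ => by rw [S.uf]))
    rw [e1, map_sum]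
    exact Finset.sum_eq_zero fun i _ => by rw [map_mul, map_mul, hcK, mul_zero, zero_mul]
  have htN := S.ker_nil t hte htρ
  have hcK0 : cK ≠ 0 := by
    intro h0
    obtain ⟨χ, hχ⟩ := IsPBlock.nonempty hM hB
    obtain ⟨σ, hσ, hσK⟩ := exists_rep hM hB hχ y
    rw [ht, h0, zero_smul, sub_zero] at htN
    have h1 := congrArg σ htN
    rw [map_pow, map_mul, hσ, one_mul, hK, hσK, smul_pow, one_pow, map_zero] at h1
    have hne : res hM ⟨centralChar (χ : G → ℂ) y, mem_plc hM (memLocalRing_centralChar hM χ y)⟩ ≠ 0 := fun h =>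
      hy.2.2 χ hχ ((res_eq_zero hM (z := ⟨_, mem_plc hM (memLocalRing_centralChar hM χ y)⟩)
        (memLocalRing_centralChar hM χ y)).1 h)
    have hd0 := charDegree_pos χ.2
    have h2 := congrFun (congrFun h1 ⟨0, hd0⟩) ⟨0, hd0⟩
    simp only [Matrix.smul_apply, Matrix.one_apply_eq, smul_eq_mul, mul_one, Matrix.zero_apply] at h2
    exact pow_ne_zero _ hne h2
  set s := ∑ i ∈ Finset.range (S.N + 1), ((-cK⁻¹) • t) ^ i with hs
  have hs1 : (1 - (-cK⁻¹) • t) * s = 1 := by rw [hs, mul_neg_geom_sum, smul_pow, htN, smul_zero, sub_zero]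
  set w := e * (cK⁻¹ • s) with hw
  have hwc : ∀ z, Commute w z := fun z => by
    refine Commute.mul_left (hec z) (Commute.smul_left (Commute.sum_left _ _ _ fun i _ => ?_) _)
    refine Commute.pow_left (Commute.smul_left ?_ _) _
    exact Commute.sub_left (Commute.mul_left (hec z) (hKc z)) (Commute.smul_left (hec z) _)
  have hwK : w * K = e := by
    have h1 : e * (1 - (-cK⁻¹) • t) = cK⁻¹ • (e * K) := by
      rw [neg_smul, sub_neg_eq_add, mul_add, mul_one, mul_smul_comm, hte, ht, smul_sub, smul_smul,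
        inv_mul_cancel₀ hcK0, one_smul, add_sub_cancel]
    calc w * K = K * (e * (cK⁻¹ • s)) := ((hKc w).eq).symm
      _ = (cK⁻¹ • (e * K)) * s := by rw [← mul_assoc, mul_smul_comm, smul_mul_assoc, (hec K).eq]
      _ = e := by rw [← h1, mul_assoc, hs1, mul_one]
  have hN0 : ((P.relIndex Cy : ℕ) : RF hM) ≠ 0 := fun h => hNp ((CharP.cast_eq_zero_iff (RF hM) p _).1 h)
  set a := ((P.relIndex Cy : ℕ) : RF hM)⁻¹ • (w * el y) with ha
  have hau : Commute a (el u) := by
    have huC : u ∈ Cy := hPC (hu ▸ Subgroup.mem_zpowers u)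
    refine Commute.smul_left (Commute.mul_left (hwc _) ?_) _
    rw [Commute, SemiconjBy, el_mul, el_mul, Subgroup.mem_centralizer_singleton_iff.1 huC]
  have hasum : ∑ r : G ⧸ P, el r.out * a * el (r.out)⁻¹ = e := by
    have h1 : ∀ r : G ⧸ P, el r.out * a * el (r.out)⁻¹ =
        ((P.relIndex Cy : ℕ) : RF hM)⁻¹ • (w * el (r.out * y * r.out⁻¹)) := fun r => by
      rw [ha, mul_smul_comm, smul_mul_assoc, ← mul_assoc, ← (hwc _).eq, mul_assoc w, el_mul, mul_assoc w, el_mul]
    rw [Finset.sum_congr rfl fun r _ => h1 r, ← Finset.smul_sum, ← Finset.mul_sum, sum_conj_el hPC, mul_smul_comm,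
      ← hK, hwK, ← Nat.cast_smul_eq_nsmul (RF hM), smul_smul, inv_mul_cancel₀ hN0, one_smul]
  obtain ⟨g, hg, hgJ⟩ := exists_gen (eBar_comm hM hB) S hu huord hau hasum
  exact ⟨S, u, a, g, hu, hau, hasum, hg, hgJ⟩

end CfsgLib.Blocks.CyclicRank
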